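import Groth.Agent.H18.VA.Main
import Groth.Agent.S15745

/-!
# Charts of morphisms to `Proj` and restriction (helper20)
-/

set_option autoImplicit false
set_option backward.isDefEq.respectTransparency false
universe u
open CategoryTheory CategoryTheory.Limits AlgebraicGeometry TopologicalSpace Opposite
open HomogeneousLocalization

namespace Groth.Agent.H20.VAT

open Groth.Agent.H18 Groth.Agent.H18.PUP Groth.Agent.H18.STL Groth.Agent.H18.VA

section localMap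

variable {A S : Type u} [CommRing A] [CommRing S] [Algebra A S]
variable (𝒮 : ℕ → Submodule A S) [GradedAlgebra 𝒮]

theorem resLE_comp_localMap {X Y : Scheme.{u}} (r : X ⟶ Y) (D : Y.Opens) (U : X.Opens)
    (hU : U ≤ r ⁻¹ᵁ D) {g : S} {d : ℕ} (hg : g ∈ 𝒮 d) (hd : 0 < d) (F : S →+* Γ(Y, D))
    (hF : IsUnit (F g)) :
    r.resLE D U hU ≫ localMap 𝒮 D hg hd F hF =
      localMap 𝒮 U hg hd ((r.appLE D U hU).hom.comp F) (hF.map (r.appLE D U hU).hom) := by
  unfold localMap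
  rw [← awayLift_comp 𝒮 _ hg, ← Category.assoc, ← Scheme.Opens.toSpecΓ_SpecMap_appLE,
    Category.assoc, ← Category.assoc (Spec.map _), ← Spec.map_comp]
  rfl

end localMap

section poly

/-- the unique ring homomorphism out of `ULift ℤ` -/
noncomputable def ulInt (B : Type*) [CommRing B] : ULift.{u} ℤ →+* B :=
  (Int.castRingHom B).comp (ULift.ringEquiv : ULift.{u} ℤ ≃+* ℤ).toRingHom

theorem ulift_ringHom_ext {B : Type*} [CommRing B] (f g : ULift.{u} ℤ →+* B) : f = g := by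
  have h : f.comp (ULift.ringEquiv : ULift.{u} ℤ ≃+* ℤ).symm.toRingHom =
      g.comp (ULift.ringEquiv : ULift.{u} ℤ ≃+* ℤ).symm.toRingHom := RingHom.ext_int _ _
  ext x
  have h2 := RingHom.congr_fun h (ULift.ringEquiv x)
  simp only [RingHom.comp_apply, RingEquiv.toRingHom_eq_coe, RingHom.coe_coe,
    RingEquiv.symm_apply_apply] at h2
  exact h2

/-- the ring homomorphism out of `ℤ[T_0, …, T_n]` with prescribed values on the variables -/
noncomputable def polyHom (n : ℕ) {B : Type*} [CommRing B] (v : Fin (n + 1) → B) :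
    MvPolynomial (Fin (n + 1)) (ULift.{u} ℤ) →+* B :=
  MvPolynomial.eval₂Hom (ulInt B) v

@[simp]
theorem polyHom_X (n : ℕ) {B : Type*} [CommRing B] (v : Fin (n + 1) → B) (j : Fin (n + 1)) :
    polyHom n v (MvPolynomial.X j) = v j :=
  MvPolynomial.eval₂Hom_X' _ _ _

theorem poly_ringHom_ext {n : ℕ} {B : Type*} [CommRing B]
    (f g : MvPolynomial (Fin (n + 1)) (ULift.{u} ℤ) →+* B)
    (h : ∀ j, f (MvPolynomial.X j) = g (MvPolynomial.X j)) : f = g :=
  MvPolynomial.ringHom_ext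
    (fun c => congrArg (fun φ : ULift.{u} ℤ →+* B => φ c)
      (ulift_ringHom_ext (f.comp MvPolynomial.C) (g.comp MvPolynomial.C))) h

end poly

section core

variable {n N : ℕ} {X : Scheme.{u}}
  (r₀ : X ⟶ Proj (CohB1.polyGrading n (ULift.{u} ℤ)))
  (r : X ⟶ Proj (CohB1.polyGrading N (ULift.{u} ℤ))) {Q : X.Modules}
  (τ : (Scheme.Modules.pullback r).obj (Twist.twist (CohB1.polyGrading N (ULift.{u} ℤ)) 1) ≅ Q)
  (φ : Fin (n + 1) → Fin (N + 1)) (j : Fin (n + 1))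

/-- the linear projection `D₊(T_{φ j}) ⟶ P^n`, `T_{j'} ↦ T_{φ j'}` -/
noncomputable def projChart :
    (Proj.basicOpen (CohB1.polyGrading N (ULift.{u} ℤ))
      (MvPolynomial.X (φ j) : MvPolynomial (Fin (N + 1)) (ULift.{u} ℤ)) : Scheme.{u}) ⟶
      Proj (CohB1.polyGrading n (ULift.{u} ℤ)) :=
  localMap (CohB1.polyGrading n (ULift.{u} ℤ))
    (Proj.basicOpen (CohB1.polyGrading N (ULift.{u} ℤ))
      (MvPolynomial.X (φ j) : MvPolynomial (Fin (N + 1)) (ULift.{u} ℤ)))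
    (X_mem (ULift.{u} ℤ) n j) one_pos
    (polyHom n (fun j' => fracO (CohB1.polyGrading N (ULift.{u} ℤ))
      (X_mem (ULift.{u} ℤ) N (φ j')) (X_mem (ULift.{u} ℤ) N (φ j))
      (Proj.basicOpen (CohB1.polyGrading N (ULift.{u} ℤ))
        (MvPolynomial.X (φ j) : MvPolynomial (Fin (N + 1)) (ULift.{u} ℤ))) (fun _ hx => hx)))
    (by rw [polyHom_X, fracO_self]; exact isUnit_one)

theorem morphismRestrict_comp_projChart
    (hU : r ⁻¹ᵁ Proj.basicOpen (CohB1.polyGrading N (ULift.{u} ℤ))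
        (MvPolynomial.X (φ j) : MvPolynomial (Fin (N + 1)) (ULift.{u} ℤ)) ≤
      r₀ ⁻¹ᵁ Proj.basicOpen (CohB1.polyGrading n (ULift.{u} ℤ))
        (MvPolynomial.X j : MvPolynomial (Fin (n + 1)) (ULift.{u} ℤ)))
    (hρ : ∀ j', mres Q (le_top : r ⁻¹ᵁ Proj.basicOpen (CohB1.polyGrading N (ULift.{u} ℤ))
          (MvPolynomial.X (φ j) : MvPolynomial (Fin (N + 1)) (ULift.{u} ℤ)) ≤ ⊤)
          (tsec (CohB1.polyGrading N (ULift.{u} ℤ)) r τ (X_mem (ULift.{u} ℤ) N (φ j'))) =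
        (r₀.appLE _ _ hU).hom (fracO (CohB1.polyGrading n (ULift.{u} ℤ))
          (X_mem (ULift.{u} ℤ) n j') (X_mem (ULift.{u} ℤ) n j) _ (fun _ hx => hx)) •
        mres Q (le_top : r ⁻¹ᵁ Proj.basicOpen (CohB1.polyGrading N (ULift.{u} ℤ))
          (MvPolynomial.X (φ j) : MvPolynomial (Fin (N + 1)) (ULift.{u} ℤ)) ≤ ⊤)
          (tsec (CohB1.polyGrading N (ULift.{u} ℤ)) r τ (X_mem (ULift.{u} ℤ) N (φ j)))) :
    (r ∣_ Proj.basicOpen (CohB1.polyGrading N (ULift.{u} ℤ))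
        (MvPolynomial.X (φ j) : MvPolynomial (Fin (N + 1)) (ULift.{u} ℤ))) ≫ projChart φ j =
      (r ⁻¹ᵁ Proj.basicOpen (CohB1.polyGrading N (ULift.{u} ℤ))
        (MvPolynomial.X (φ j) : MvPolynomial (Fin (N + 1)) (ULift.{u} ℤ))).ι ≫ r₀ := by
  rw [← Scheme.Hom.resLE_eq_morphismRestrict]
  unfold projChart
  rw [resLE_comp_localMap,
    ι_comp_eq_localMap (CohB1.polyGrading n (ULift.{u} ℤ)) r₀ (X_mem (ULift.{u} ℤ) n j) _ hU]
  apply localMap_congr
  apply poly_ringHom_ext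
  intro j'
  rw [RingHom.comp_apply, polyHom_X,
    chartHom_deg_one _ r₀ (X_mem (ULift.{u} ℤ) n j) _ hU (X_mem (ULift.{u} ℤ) n j')]
  exact appLE_fracO_eq_of_ratio (CohB1.polyGrading N (ULift.{u} ℤ)) r τ
    (X_mem (ULift.{u} ℤ) N (φ j')) (X_mem (ULift.{u} ℤ) N (φ j)) _ le_rfl _ (hρ j')

end core

end Groth.Agent.H20.VAT
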