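import Groth.Agent.H20.VAT.LocalMap
import Groth.Agent.H18.STL.GenAt

/-!
# `L` very ample (projective space form), `L'` globally generated ⟹ `L ⊗ L'` very ample (helper20)

No Segre embedding: the morphism `ψ` attached to the sections `a_j ⊗ s_k` is an immersion
because on the chart `D₊(T_{jk})` it becomes the given immersion after composing with a linear
projection.
-/

set_option autoImplicit false
set_option backward.isDefEq.respectTransparency false
set_option linter.style.haveILetI false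
universe u
open CategoryTheory CategoryTheory.Limits AlgebraicGeometry TopologicalSpace Opposite
open HomogeneousLocalization

namespace Groth.Agent.H20.VAT

open Groth.Agent.H18 Groth.Agent.H18.PUP Groth.Agent.H18.STL Groth.Agent.H18.VA

variable {X : Scheme.{u}}

/-- generating sections: near every point one of them generates -/
theorem exists_mem_genLocus_of_generatedBy {L : X.Modules} (hL : PicF.IsInvertible L)
    {J : Type*} (s : J → ProjUP.Γm L) (hs : ProjUP.GeneratedBy L s) (x : X) :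
    ∃ j, x ∈ CohB1.genLocus L (sectionHom L (s j)) := by
  obtain ⟨j, W, hxW, hb⟩ := exists_basis_nhd L hL s hs x
  refine ⟨j, (mem_genLocus_iff_isGenAt _ hxW).2 ⟨W, le_rfl, hxW, ?_⟩⟩
  rw [mres_self, val_sectionHom]
  exact hb

theorem generatedBy_cons_zero {L : X.Modules} {m : ℕ} (s : Fin m → ProjUP.Γm L)
    (hs : ProjUP.GeneratedBy L s) :
    ProjUP.GeneratedBy L (Fin.cons 0 s : Fin (m + 1) → ProjUP.Γm L) := by
  intro x
  apply top_le_iff.1
  rw [← hs x]
  apply Submodule.span_mono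
  rintro _ ⟨k, rfl⟩
  exact ⟨k.succ, by simp⟩

/-- the variables cover projective space -/
theorem exists_mem_basicOpen_X (n : ℕ) (y : Proj (CohB1.polyGrading n (ULift.{u} ℤ))) :
    ∃ j : Fin (n + 1), y ∈ Proj.basicOpen (CohB1.polyGrading n (ULift.{u} ℤ))
      (MvPolynomial.X j : MvPolynomial (Fin (n + 1)) (ULift.{u} ℤ)) :=
  exists_notMem_of_adjoin_eq_top (CohB1.polyGrading n (ULift.{u} ℤ))
    (fun i : Fin (n + 1) => (MvPolynomial.X i : MvPolynomial (Fin (n + 1)) (ULift.{u} ℤ)))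
    (MvPolynomial.adjoin_range_X) y

theorem isRelVeryAmplePn_tensorMod {X S : Scheme.{u}} (q : X ⟶ S) (L L' : X.Modules)
    (hL : PicF.IsInvertible L) (hva : RelAmple.IsRelVeryAmplePn q L)
    (hL' : PicF.IsInvertible L') {m : ℕ} (s : Fin m → ProjUP.Γm L')
    (hs : ProjUP.GeneratedBy L' s) :
    RelAmple.IsRelVeryAmplePn q (CohB1.tensorMod L L') := by
  classical
  obtain ⟨n, i, himm, hiq, ⟨e⟩⟩ := hva
  obtain ⟨r₀, hr₀⟩ : ∃ r₀ : X ⟶ Proj (CohB1.polyGrading n (ULift.{u} ℤ)),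
      i ≫ pullback.fst (CohB1.ProjSpace.toSpec n (ULift.{u} ℤ))
        (specULiftZIsTerminal.from S) = r₀ := ⟨_, rfl⟩
  let τ₀ : (Scheme.Modules.pullback r₀).obj
      (Twist.twist (CohB1.polyGrading n (ULift.{u} ℤ)) 1) ≅ L :=
    ((Scheme.Modules.pullbackCongr hr₀.symm).app _) ≪≫
      ((Scheme.Modules.pullbackComp i (pullback.fst (CohB1.ProjSpace.toSpec n (ULift.{u} ℤ))
        (specULiftZIsTerminal.from S))).app _).symm ≪≫ e.symm
  -- the sections of `L` and `L'`
  let a : Fin (n + 1) → Γ(L, (⊤ : X.Opens)) := fun j =>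
    tsec (CohB1.polyGrading n (ULift.{u} ℤ)) r₀ τ₀ (X_mem (ULift.{u} ℤ) n j)
  let α : Fin (n + 1) → (Coh.structureModule X ⟶ L) := fun j => sectionHom L (a j)
  have hpre₀ : ∀ j, r₀ ⁻¹ᵁ Proj.basicOpen (CohB1.polyGrading n (ULift.{u} ℤ))
      (MvPolynomial.X j : MvPolynomial (Fin (n + 1)) (ULift.{u} ℤ)) = CohB1.genLocus L (α j) :=
    fun j => preimage_basicOpen_eq_genLocus (CohB1.polyGrading n (ULift.{u} ℤ)) r₀ τ₀ hL
      (X_mem (ULift.{u} ℤ) n j) (hproj_poly _ n)
  let s' : Fin (m + 1) → ProjUP.Γm L' := Fin.cons 0 s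
  have hs' : ProjUP.GeneratedBy L' s' := generatedBy_cons_zero s hs
  let β : Fin (m + 1) → (Coh.structureModule X ⟶ L') := fun k => sectionHom L' (s' k)
  -- the index set
  obtain ⟨N, hN⟩ : ∃ N, Fintype.card (Fin (n + 1) × Fin (m + 1)) = N + 1 :=
    ⟨Fintype.card (Fin (n + 1) × Fin (m + 1)) - 1,
      (Nat.succ_pred_eq_of_pos Fintype.card_pos).symm⟩
  let eJ : Fin (n + 1) × Fin (m + 1) ≃ Fin (N + 1) := Fintype.equivFinOfCardEq hN
  let γ : Fin (N + 1) → (Coh.structureModule X ⟶ CohB1.tensorMod L L') := fun l =>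
    SecTwist.tmulHom (α (eJ.symm l).1) (β (eJ.symm l).2)
  let c : Fin (N + 1) → ProjUP.Γm (CohB1.tensorMod L L') := fun l => SecTwist.val (γ l) ⊤
  have hcγ : ∀ l, sectionHom (CohB1.tensorMod L L') (c l) = γ l := fun l => sectionHom_val_top _
  have hQ : PicF.IsInvertible (CohB1.tensorMod L L') := isInvertible_tensorMod hL hL'
  have hgenloc : ∀ l, CohB1.genLocus (CohB1.tensorMod L L') (γ l) =
      CohB1.genLocus L (α (eJ.symm l).1) ⊓ CohB1.genLocus L' (β (eJ.symm l).2) :=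
    fun l => Groth.Agent.S15745.result X L L' hL hL' _ _
  have hc : ProjUP.GeneratedBy (CohB1.tensorMod L L') c := by
    refine generatedBy_of_cover_genLocus _ hQ c (fun x => ?_)
    obtain ⟨j, hj⟩ := exists_mem_basicOpen_X n (r₀ x)
    have hj' : x ∈ CohB1.genLocus L (α j) := by rw [← hpre₀]; exact hj
    obtain ⟨k, hk⟩ := exists_mem_genLocus_of_generatedBy hL' s' hs' x
    refine ⟨eJ (j, k), ?_⟩
    rw [hcγ, hgenloc, Equiv.symm_apply_apply]
    exact ⟨hj', hk⟩
  obtain ⟨ψ₀, -, τ', hτ'⟩ := Groth.Agent.S3572.result (R := ULift.{u} ℤ) N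
    (specULiftZIsTerminal.from X) (CohB1.tensorMod L L') hQ c hc
  obtain ⟨ψ, hψ1, hψ2⟩ : ∃ ψ : X ⟶ CohB1.ProjSpaceOver N S,
      ψ ≫ pullback.fst (CohB1.ProjSpace.toSpec N (ULift.{u} ℤ))
        (specULiftZIsTerminal.from S) = ψ₀ ∧
      ψ ≫ pullback.snd (CohB1.ProjSpace.toSpec N (ULift.{u} ℤ))
        (specULiftZIsTerminal.from S) = q :=
    ⟨pullback.lift ψ₀ q (specULiftZIsTerminal.hom_ext _ _), pullback.lift_fst _ _ _,
      pullback.lift_snd _ _ _⟩
  refine ⟨N, ψ, ?_, hψ2, ⟨τ'.symm ≪≫ ((Scheme.Modules.pullbackCongr hψ1.symm).app _) ≪≫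
      ((Scheme.Modules.pullbackComp ψ (pullback.fst (CohB1.ProjSpace.toSpec N (ULift.{u} ℤ))
        (specULiftZIsTerminal.from S))).app _).symm⟩⟩
  subst hψ1
  have hts : ∀ l, tsec (CohB1.polyGrading N (ULift.{u} ℤ))
      (ψ ≫ pullback.fst (CohB1.ProjSpace.toSpec N (ULift.{u} ℤ)) (specULiftZIsTerminal.from S))
      τ' (X_mem (ULift.{u} ℤ) N l) = SecTwist.val (γ l) ⊤ := fun l => hτ' l
  have hpre : ∀ l, (ψ ≫ pullback.fst (CohB1.ProjSpace.toSpec N (ULift.{u} ℤ))
      (specULiftZIsTerminal.from S)) ⁻¹ᵁ Proj.basicOpen (CohB1.polyGrading N (ULift.{u} ℤ))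
        (MvPolynomial.X l : MvPolynomial (Fin (N + 1)) (ULift.{u} ℤ)) =
      CohB1.genLocus (CohB1.tensorMod L L') (γ l) := by
    intro l
    have := preimage_basicOpen_eq_genLocus (CohB1.polyGrading N (ULift.{u} ℤ)) _ τ' hQ
      (X_mem (ULift.{u} ℤ) N l) (hproj_poly _ N)
    rw [hts] at this
    exact this.trans (congrArg _ (hcγ l))
  have hγ : ∀ j k, γ (eJ (j, k)) = SecTwist.tmulHom (α j) (β k) := by
    intro j k
    change SecTwist.tmulHom (α (eJ.symm (eJ (j, k))).1) (β (eJ.symm (eJ (j, k))).2) = _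
    rw [Equiv.symm_apply_apply]
  haveI : MorphismProperty.RespectsRight @IsImmersion @IsOpenImmersion :=
    ⟨fun j hj f hf => by
      haveI : IsOpenImmersion j := hj
      haveI : IsImmersion f := hf
      infer_instance⟩
  refine IsZariskiLocalAtTarget.of_range_subset_iSup (P := @IsImmersion)
    (fun jk : Fin (n + 1) × Fin (m + 1) =>
      pullback.fst (CohB1.ProjSpace.toSpec N (ULift.{u} ℤ)) (specULiftZIsTerminal.from S) ⁻¹ᵁ
        Proj.basicOpen (CohB1.polyGrading N (ULift.{u} ℤ))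
          (MvPolynomial.X (eJ jk) : MvPolynomial (Fin (N + 1)) (ULift.{u} ℤ))) ?_ (fun jk => ?_)
  · rintro _ ⟨x, rfl⟩
    obtain ⟨l, hl⟩ := exists_mem_basicOpen_X N ((ψ ≫ pullback.fst
      (CohB1.ProjSpace.toSpec N (ULift.{u} ℤ)) (specULiftZIsTerminal.from S)) x)
    refine Opens.mem_iSup.2 ⟨eJ.symm l, ?_⟩
    rw [Equiv.apply_symm_apply]
    exact hl
  · obtain ⟨j, k⟩ := jk
    have hU : (ψ ≫ pullback.fst (CohB1.ProjSpace.toSpec N (ULift.{u} ℤ))
        (specULiftZIsTerminal.from S)) ⁻¹ᵁ Proj.basicOpen (CohB1.polyGrading N (ULift.{u} ℤ))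
          (MvPolynomial.X (eJ (j, k)) : MvPolynomial (Fin (N + 1)) (ULift.{u} ℤ)) ≤
        r₀ ⁻¹ᵁ Proj.basicOpen (CohB1.polyGrading n (ULift.{u} ℤ))
          (MvPolynomial.X j : MvPolynomial (Fin (n + 1)) (ULift.{u} ℤ)) := by
      rw [hpre, hgenloc, Equiv.symm_apply_apply, hpre₀]
      exact inf_le_left
    have key := morphismRestrict_comp_projChart r₀ (ψ ≫ pullback.fst
      (CohB1.ProjSpace.toSpec N (ULift.{u} ℤ)) (specULiftZIsTerminal.from S)) τ'
      (fun j' => eJ (j', k)) j hU (by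
        intro j'
        rw [hts, hts, mres_val, mres_val, hγ, hγ, SecTwist.val_tmulHom, SecTwist.val_tmulHom,
          ← tmul_smul_left]
        congr 1
        rw [val_sectionHom, val_sectionHom]
        have h := congrArg (mres L hU) (tsec_ratio (CohB1.polyGrading n (ULift.{u} ℤ)) r₀ τ₀
          (X_mem (ULift.{u} ℤ) n j') (X_mem (ULift.{u} ℤ) n j))
        rw [mres_mres, mres_smul, mres_mres] at h
        exact h)
    -- the projection on the chart
    let Pj : ((pullback.fst (CohB1.ProjSpace.toSpec N (ULift.{u} ℤ))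
        (specULiftZIsTerminal.from S) ⁻¹ᵁ Proj.basicOpen (CohB1.polyGrading N (ULift.{u} ℤ))
          (MvPolynomial.X (eJ (j, k)) : MvPolynomial (Fin (N + 1)) (ULift.{u} ℤ)) :
            (CohB1.ProjSpaceOver N S).Opens) : Scheme.{u}) ⟶ CohB1.ProjSpaceOver n S :=
      pullback.lift
        ((pullback.fst (CohB1.ProjSpace.toSpec N (ULift.{u} ℤ)) (specULiftZIsTerminal.from S) ∣_
          Proj.basicOpen (CohB1.polyGrading N (ULift.{u} ℤ))
            (MvPolynomial.X (eJ (j, k)) : MvPolynomial (Fin (N + 1)) (ULift.{u} ℤ))) ≫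
          projChart (fun j' => eJ (j', k)) j)
        (Scheme.Opens.ι _ ≫ pullback.snd (CohB1.ProjSpace.toSpec N (ULift.{u} ℤ))
          (specULiftZIsTerminal.from S))
        (specULiftZIsTerminal.hom_ext _ _)
    have hcomp : (ψ ∣_ (pullback.fst (CohB1.ProjSpace.toSpec N (ULift.{u} ℤ))
        (specULiftZIsTerminal.from S) ⁻¹ᵁ Proj.basicOpen (CohB1.polyGrading N (ULift.{u} ℤ))
          (MvPolynomial.X (eJ (j, k)) : MvPolynomial (Fin (N + 1)) (ULift.{u} ℤ)))) ≫ Pj =
        Scheme.Opens.ι _ ≫ i := by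
      apply pullback.hom_ext
      · rw [Category.assoc, pullback.lift_fst, Category.assoc, hr₀, ← Category.assoc,
          ← morphismRestrict_comp]
        exact key
      · rw [Category.assoc, pullback.lift_snd, Category.assoc, hiq, ← Category.assoc,
          morphismRestrict_ι, Category.assoc, hψ2]
    haveI : IsImmersion ((ψ ∣_ (pullback.fst (CohB1.ProjSpace.toSpec N (ULift.{u} ℤ))
        (specULiftZIsTerminal.from S) ⁻¹ᵁ Proj.basicOpen (CohB1.polyGrading N (ULift.{u} ℤ))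
          (MvPolynomial.X (eJ (j, k)) : MvPolynomial (Fin (N + 1)) (ULift.{u} ℤ)))) ≫ Pj) := by
      rw [hcomp]
      infer_instance
    exact IsImmersion.of_comp _ Pj

end Groth.Agent.H20.VAT
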